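import Mathlib
import Cfsg.Prelude.Def_LieExceptional

/-!
# Project SPBN (helper13): an explicit (B,N)-pair on Mathlib's `Matrix.symplecticGroup (Fin m) F`

Definitions only (plus the membership proofs needed to state them).  Index set `Fin m ⊕ Fin m`,
ordered `e_0 < ... < e_{m-1} < f_{m-1} < ... < f_0` by `rk`; `B` = upper triangular for this order.
-/

set_option autoImplicit false

namespace Cfsg.Agent.Lib.Helper13.SpBN

open Matrix

variable {m : ℕ} {F : Type*} [Field F]

/-- the index set of `Sp_{2m}` -/
abbrev Idx (m : ℕ) : Type := Fin m ⊕ Fin m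

/-- the symplectic group as a type -/
abbrev SpG (m : ℕ) (F : Type*) [Field F] : Type _ := ↥(Matrix.symplecticGroup (Fin m) F)

/-- position of an index in the order `e_0 < ... < e_{m-1} < f_{m-1} < ... < f_0` -/
def rk : Idx m → ℕ
  | Sum.inl i => i.val
  | Sum.inr i => 2 * m - 1 - i.val

/-- the swap `e_i ↔ f_i` of the index set -/
def iota : Idx m → Idx m := Sum.swap

theorem isUnit_det_coe (g : SpG m F) : IsUnit (g : Matrix (Idx m) (Idx m) F).det :=
  SymplecticGroup.symplectic_det g.2

/-- the Borel subgroup: matrices upper triangular for the order `rk` -/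
def Bsp (m : ℕ) (F : Type*) [Field F] : Subgroup (SpG m F) where
  carrier := {g | BlockTriangular (g : Matrix (Idx m) (Idx m) F) rk}
  mul_mem' := fun {a b} ha hb => by
    show BlockTriangular ((a : Matrix (Idx m) (Idx m) F) * (b : Matrix (Idx m) (Idx m) F)) rk
    exact BlockTriangular.mul ha hb
  one_mem' := by
    show BlockTriangular ((1 : Matrix (Idx m) (Idx m) F)) rk
    exact blockTriangular_one
  inv_mem' := fun {g} hg => by
    show BlockTriangular ((g⁻¹ : SpG m F) : Matrix (Idx m) (Idx m) F) rk
    rw [SymplecticGroup.coe_inv']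
    have : Invertible (g : Matrix (Idx m) (Idx m) F) :=
      Matrix.invertibleOfIsUnitDet _ (isUnit_det_coe g)
    exact blockTriangular_inv_of_blockTriangular hg

theorem mem_Bsp {g : SpG m F} :
    g ∈ Bsp m F ↔ BlockTriangular (g : Matrix (Idx m) (Idx m) F) rk := Iff.rfl

/-- the opposite Borel subgroup: matrices lower triangular for the order `rk` -/
def Bop (m : ℕ) (F : Type*) [Field F] : Subgroup (SpG m F) where
  carrier := {g | BlockTriangular (g : Matrix (Idx m) (Idx m) F)ᵀ rk}
  mul_mem' := fun {a b} ha hb => by
    show BlockTriangular ((a : Matrix (Idx m) (Idx m) F) * (b : Matrix (Idx m) (Idx m) F))ᵀ rk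
    rw [Matrix.transpose_mul]
    exact BlockTriangular.mul hb ha
  one_mem' := by
    show BlockTriangular ((1 : Matrix (Idx m) (Idx m) F))ᵀ rk
    rw [Matrix.transpose_one]
    exact blockTriangular_one
  inv_mem' := fun {g} hg => by
    show BlockTriangular (((g⁻¹ : SpG m F) : Matrix (Idx m) (Idx m) F))ᵀ rk
    rw [SymplecticGroup.coe_inv', Matrix.transpose_nonsing_inv]
    have : Invertible (g : Matrix (Idx m) (Idx m) F)ᵀ :=
      Matrix.invertibleOfIsUnitDet _ (by rw [Matrix.det_transpose]; exact isUnit_det_coe g)
    exact blockTriangular_inv_of_blockTriangular hg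

theorem mem_Bop {g : SpG m F} :
    g ∈ Bop m F ↔ BlockTriangular (g : Matrix (Idx m) (Idx m) F)ᵀ rk := Iff.rfl

/-- the torus `T = B ∩ B⁻` (the diagonal matrices of `Sp`) -/
def Tsp (m : ℕ) (F : Type*) [Field F] : Subgroup (SpG m F) := Bsp m F ⊓ Bop m F

/-! ### the simple pairs, root elements and reflections -/

/-- the upper index `e_k` of the `k`-th simple pair -/
def aI (k : Fin m) : Idx m := Sum.inl k

/-- the lower index of the `k`-th simple pair: `e_{k+1}`, or `f_k` for the last one (long root) -/
def bI (k : Fin m) : Idx m :=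
  if h : k.val + 1 < m then Sum.inl ⟨k.val + 1, h⟩ else Sum.inr k

/-- matrix of the root element `x_k(t)`: `1 + t E_{ab} - t E_{b'a'}` (short) or `1 + t E_{ab}` (long) -/
def xMat (k : Fin m) (t : F) : Matrix (Idx m) (Idx m) F :=
  if h : k.val + 1 < m then
    fromBlocks (transvection k ⟨k.val + 1, h⟩ t) 0 0 (transvection ⟨k.val + 1, h⟩ k (-t))
  else
    fromBlocks 1 (Matrix.single k k t) 0 1

theorem xMat_mem (k : Fin m) (t : F) : xMat k t ∈ Matrix.symplecticGroup (Fin m) F := by
  unfold xMat
  split_ifs with h
  · have hne : k ≠ (⟨k.val + 1, h⟩ : Fin m) := by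
      intro e
      have := congrArg Fin.val e
      simp at this
    rw [SymplecticGroup.mem_iff, Matrix.J, fromBlocks_transpose, fromBlocks_multiply,
      fromBlocks_multiply]
    have h1 : transvection k (⟨k.val + 1, h⟩ : Fin m) t *
        (transvection (⟨k.val + 1, h⟩ : Fin m) k (-t))ᵀ = 1 := by
      rw [transvection, transvection, Matrix.transpose_add, Matrix.transpose_one,
        Matrix.transpose_single]
      have := transvection_mul_transvection_same (R := F) k (⟨k.val + 1, h⟩ : Fin m) hne t (-t)
      rw [transvection, transvection, transvection] at this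
      rw [this]
      simp
    have h2 : transvection (⟨k.val + 1, h⟩ : Fin m) k (-t) *
        (transvection k (⟨k.val + 1, h⟩ : Fin m) t)ᵀ = 1 := by
      rw [transvection, transvection, Matrix.transpose_add, Matrix.transpose_one,
        Matrix.transpose_single]
      have := transvection_mul_transvection_same (R := F) (⟨k.val + 1, h⟩ : Fin m) k hne.symm (-t) t
      rw [transvection, transvection, transvection] at this
      rw [this]
      simp
    simp only [Matrix.zero_mul, Matrix.mul_zero, add_zero, zero_add, Matrix.mul_one,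
      Matrix.neg_mul, Matrix.mul_neg, h1, h2, neg_zero, Matrix.transpose_zero]
  · rw [SymplecticGroup.mem_iff, Matrix.J, fromBlocks_transpose, fromBlocks_multiply,
      fromBlocks_multiply]
    simp only [Matrix.zero_mul, Matrix.mul_zero, add_zero, zero_add, Matrix.mul_one,
      Matrix.neg_mul, Matrix.mul_neg, neg_zero, Matrix.transpose_zero, Matrix.transpose_one,
      Matrix.one_mul, Matrix.transpose_single]
    congr 1
    simp

/-- the root element `x_k(t)` of the `k`-th simple root -/
def xRoot (k : Fin m) (t : F) : SpG m F := ⟨xMat k t, xMat_mem k t⟩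

/-- the opposite root element `y_k(t) = x_k(t)ᵀ` -/
def yRoot (k : Fin m) (t : F) : SpG m F :=
  ⟨(xMat k t)ᵀ, SymplecticGroup.transpose_mem (xMat_mem k t)⟩

/-- the representative `s_k = x_k(1) y_k(-1) x_k(1)` of the `k`-th simple reflection -/
def sRef (k : Fin m) : SpG m F := xRoot k 1 * yRoot k (-1) * xRoot k 1

/-- the set of distinguished generators -/
def Sset (m : ℕ) (F : Type*) [Field F] : Set (SpG m F) := Set.range (sRef (m := m) (F := F))

/-- `N := ⟨S⟩ T` -/
def Nsp (m : ℕ) (F : Type*) [Field F] : Subgroup (SpG m F) :=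
  Subgroup.closure (Sset m F) ⊔ Tsp m F

/-- the order `rk` with the two levels of the `k`-th simple pair (and of its mirror image) merged -/
def rkP (k : Fin m) (c : Idx m) : ℕ :=
  if c = bI k then rk (aI k) else if c = iota (aI k) then rk (iota (bI k)) else rk c

/-- the minimal parabolic subgroup `P_k ⊇ B` -/
def Psp (k : Fin m) : Subgroup (SpG m F) where
  carrier := {g | BlockTriangular (g : Matrix (Idx m) (Idx m) F) (rkP k)}
  mul_mem' := fun {a b} ha hb => by
    show BlockTriangular ((a : Matrix (Idx m) (Idx m) F) * (b : Matrix (Idx m) (Idx m) F)) (rkP k)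
    exact BlockTriangular.mul ha hb
  one_mem' := by
    show BlockTriangular ((1 : Matrix (Idx m) (Idx m) F)) (rkP k)
    exact blockTriangular_one
  inv_mem' := fun {g} hg => by
    show BlockTriangular ((g⁻¹ : SpG m F) : Matrix (Idx m) (Idx m) F) (rkP k)
    rw [SymplecticGroup.coe_inv']
    have : Invertible (g : Matrix (Idx m) (Idx m) F) :=
      Matrix.invertibleOfIsUnitDet _ (isUnit_det_coe g)
    exact blockTriangular_inv_of_blockTriangular hg

theorem mem_Psp {k : Fin m} {g : SpG m F} :
    g ∈ Psp k ↔ BlockTriangular (g : Matrix (Idx m) (Idx m) F) (rkP k) := Iff.rfl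

/-- monomial matrices: column `y` has its only non-zero entry `ν y` in row `π y` -/
def monoMat (π : Equiv.Perm (Idx m)) (ν : Idx m → F) : Matrix (Idx m) (Idx m) F :=
  Matrix.of fun x y => if x = π y then ν y else 0

/-- `M` is a monomial matrix -/
def IsMono (M : Matrix (Idx m) (Idx m) F) : Prop :=
  ∃ (π : Equiv.Perm (Idx m)) (ν : Idx m → F), (∀ y, ν y ≠ 0) ∧ M = monoMat π ν


/-- the permutation of the index set underlying `s_k` -/
def sPerm (k : Fin m) : Equiv.Perm (Idx m) :=
  if k.val + 1 < m then Equiv.swap (aI k) (bI k) * Equiv.swap (iota (aI k)) (iota (bI k))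
  else Equiv.swap (aI k) (bI k)

/-- the signs of the monomial matrix `s_k` (entry of column `c`) -/
def sSign (k : Fin m) (c : Idx m) : F :=
  if c = aI k then -1 else if k.val + 1 < m ∧ c = iota (aI k) then -1 else 1

/-- the element `J` of `Sp` (it will represent the longest element of the Weyl group) -/
def Jel (m : ℕ) (F : Type*) [Field F] : SpG m F := SymplecticGroup.symJ (Fin m) F

end Cfsg.Agent.Lib.Helper13.SpBN
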