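import Mathlib
import Cfsg.Agent.Lib.Helper13.SpBN.Defs

/-!
# SPBN: explicit matrices (leaves M-MUL, E-XMAT, E-XGRP)
-/

set_option autoImplicit false

namespace Cfsg.Agent.Lib.Helper13.SpBN

open Matrix

variable {m : ℕ} {F : Type*} [Field F]

/-- [M-MUL] -/
theorem mul_monoMat (M : Matrix (Idx m) (Idx m) F) (π : Equiv.Perm (Idx m)) (ν : Idx m → F) :
    M * monoMat π ν = Matrix.of fun x y => M x (π y) * ν y := by
  ext x y
  simp only [Matrix.mul_apply, monoMat, Matrix.of_apply]
  rw [Finset.sum_eq_single (π y)]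
  · simp
  · intro z _ hz
    simp [hz]
  · intro h
    exact absurd (Finset.mem_univ _) h

/-- [M-MUL] -/
theorem monoMat_mul (π : Equiv.Perm (Idx m)) (ν : Idx m → F) (M : Matrix (Idx m) (Idx m) F) :
    monoMat π ν * M = Matrix.of fun x y => ν (π.symm x) * M (π.symm x) y := by
  ext x y
  simp only [Matrix.mul_apply, monoMat, Matrix.of_apply]
  rw [Finset.sum_eq_single (π.symm x)]
  · simp
  · intro z _ hz
    have : x ≠ π z := by
      intro h
      apply hz
      rw [h, Equiv.symm_apply_apply]
    simp [this]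
  · intro h
    exact absurd (Finset.mem_univ _) h

theorem monoMat_apply (π : Equiv.Perm (Idx m)) (ν : Idx m → F) (x y : Idx m) :
    monoMat π ν x y = if x = π y then ν y else 0 := rfl

theorem monoMat_mul_monoMat (π π' : Equiv.Perm (Idx m)) (ν ν' : Idx m → F) :
    monoMat π ν * monoMat π' ν' = monoMat (π * π') (fun y => ν (π' y) * ν' y) := by
  rw [mul_monoMat]
  ext x y
  simp only [Matrix.of_apply, monoMat_apply]
  by_cases h : x = π (π' y)
  · rw [if_pos h, if_pos (by rw [Equiv.Perm.mul_apply]; exact h)]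
  · rw [if_neg h, if_neg (by rw [Equiv.Perm.mul_apply]; exact h), zero_mul]

theorem monoMat_one : monoMat (1 : Equiv.Perm (Idx m)) (fun _ => (1 : F)) = 1 := by
  ext x y
  by_cases h : x = y <;> simp [monoMat_apply, Matrix.one_apply, h]

theorem bI_of_lt {k : Fin m} (h : k.val + 1 < m) : bI k = Sum.inl ⟨k.val + 1, h⟩ := by
  unfold bI
  rw [dif_pos h]

theorem bI_of_not_lt {k : Fin m} (h : ¬ k.val + 1 < m) : bI k = Sum.inr k := by
  unfold bI
  rw [dif_neg h]

theorem xMat_of_lt {k : Fin m} (h : k.val + 1 < m) (t : F) :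
    xMat k t = fromBlocks (transvection k ⟨k.val + 1, h⟩ t) 0 0
      (transvection ⟨k.val + 1, h⟩ k (-t)) := by
  unfold xMat
  rw [dif_pos h]

theorem xMat_of_not_lt {k : Fin m} (h : ¬ k.val + 1 < m) (t : F) :
    xMat k t = fromBlocks 1 (Matrix.single k k t) 0 1 := by
  unfold xMat
  rw [dif_neg h]

/-- [E-XMAT] -/
theorem xMat_eq (k : Fin m) (t : F) :
    xMat k t = 1 + Matrix.single (aI k) (bI k) t -
      (if k.val + 1 < m then Matrix.single (iota (bI k)) (iota (aI k)) t else 0) := by
  by_cases h : k.val + 1 < m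
  · rw [xMat_of_lt h, if_pos h, bI_of_lt h]
    unfold aI iota
    ext (i | i) (j | j)
    · simp [transvection, Matrix.one_apply, Matrix.single_apply]
    · simp [Matrix.one_apply, Matrix.single_apply]
    · simp [Matrix.one_apply, Matrix.single_apply]
    · simp only [fromBlocks_apply₂₂, transvection, Matrix.add_apply, Matrix.one_apply,
        Matrix.single_apply, Matrix.sub_apply, Sum.inr.injEq, Sum.swap_inl, reduceCtorEq,
        false_and, if_false, add_zero]
      split_ifs <;> first | ring | simp_all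
  · rw [xMat_of_not_lt h, if_neg h, bI_of_not_lt h]
    unfold aI
    ext (i | i) (j | j)
    · simp [Matrix.one_apply, Matrix.single_apply]
    · simp [Matrix.one_apply, Matrix.single_apply]
    · simp [Matrix.one_apply, Matrix.single_apply]
    · simp [Matrix.one_apply, Matrix.single_apply]

end Cfsg.Agent.Lib.Helper13.SpBN
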