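import Mathlib
import Cfsg.Agent.Lib.Helper13.SpBN.Basic

/-!
# SPBN: the root elements form one-parameter groups; the matrix of `s_k` (leaves E-XGRP, E-SMAT)
-/

set_option autoImplicit false

namespace Cfsg.Agent.Lib.Helper13.SpBN

open Matrix

variable {m : ℕ} {F : Type*} [Field F]

theorem xMat_zero (k : Fin m) : xMat k (0 : F) = 1 := by
  by_cases h : k.val + 1 < m
  · rw [xMat_of_lt h, neg_zero, transvection_zero, transvection_zero, fromBlocks_one]
  · rw [xMat_of_not_lt h, Matrix.single_zero, fromBlocks_one]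

theorem succ_ne {k : Fin m} (h : k.val + 1 < m) : k ≠ (⟨k.val + 1, h⟩ : Fin m) := by
  intro e
  have := congrArg Fin.val e
  simp at this

theorem xMat_add (k : Fin m) (t u : F) : xMat k t * xMat k u = xMat k (t + u) := by
  by_cases h : k.val + 1 < m
  · rw [xMat_of_lt h, xMat_of_lt h, xMat_of_lt h, fromBlocks_multiply,
      transvection_mul_transvection_same _ _ (succ_ne h),
      transvection_mul_transvection_same _ _ (succ_ne h).symm]
    simp only [Matrix.mul_zero, Matrix.zero_mul, add_zero, zero_add, neg_add]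
  · rw [xMat_of_not_lt h, xMat_of_not_lt h, xMat_of_not_lt h, fromBlocks_multiply]
    simp only [Matrix.mul_zero, Matrix.zero_mul, add_zero, zero_add, Matrix.one_mul,
      Matrix.mul_one]
    rw [add_comm t u, Matrix.single_add]

/-- [E-XGRP] -/
theorem xRoot_zero (k : Fin m) : xRoot k (0 : F) = 1 :=
  Subtype.ext (xMat_zero k)

/-- [E-XGRP] -/
theorem xRoot_add (k : Fin m) (t u : F) : xRoot k t * xRoot k u = xRoot k (t + u) :=
  Subtype.ext (xMat_add k t u)

/-- [E-XGRP] -/
theorem xRoot_inv (k : Fin m) (t : F) : (xRoot k t)⁻¹ = xRoot k (-t) := by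
  apply inv_eq_of_mul_eq_one_right
  rw [xRoot_add, add_neg_cancel, xRoot_zero]


/-! ### the matrix of `s_k` -/

section wmat

variable {n : Type*} [DecidableEq n] [Fintype n]

theorem single_neg' (i j : n) (a : F) : Matrix.single i j (-a) = -Matrix.single i j a := by
  ext x y
  simp only [Matrix.single_apply, Matrix.neg_apply]
  split_ifs <;> simp

/-- `x(1) y(-1) x(1)` in `SL_2`-position `(i, j)` -/
theorem transvection_triple {i j : n} (hij : i ≠ j) :
    transvection i j (1 : F) * transvection j i (-1) * transvection i j 1 =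
      1 - Matrix.single i i 1 - Matrix.single j j 1 + Matrix.single i j 1 - Matrix.single j i 1 := by
  have h1 : transvection j i (-1 : F) = 1 - Matrix.single j i 1 := by
    rw [transvection, single_neg', sub_eq_add_neg]
  rw [h1]
  simp only [transvection, Matrix.mul_add, Matrix.add_mul, Matrix.mul_sub, Matrix.sub_mul,
    Matrix.mul_one, Matrix.one_mul,
    Matrix.single_mul_single_same, Matrix.single_mul_single_of_ne _ _ _ _ hij,
    Matrix.single_mul_single_of_ne _ _ _ _ hij.symm, mul_one, Matrix.single_zero]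
  abel

/-- `y(-1) x(1) y(-1)` -/
theorem transvection_triple' {i j : n} (hij : i ≠ j) :
    transvection j i (-1 : F) * transvection i j 1 * transvection j i (-1) =
      1 - Matrix.single i i 1 - Matrix.single j j 1 + Matrix.single i j 1 - Matrix.single j i 1 := by
  have h1 : transvection j i (-1 : F) = 1 - Matrix.single j i 1 := by
    rw [transvection, single_neg', sub_eq_add_neg]
  rw [h1]
  simp only [transvection, Matrix.mul_add, Matrix.add_mul, Matrix.mul_sub, Matrix.sub_mul,
    Matrix.mul_one, Matrix.one_mul,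
    Matrix.single_mul_single_same, Matrix.single_mul_single_of_ne _ _ _ _ hij,
    Matrix.single_mul_single_of_ne _ _ _ _ hij.symm, mul_one, Matrix.single_zero]
  abel

/-- entries of the `2 × 2` rotation in position `(i, j)` -/
theorem wMat_apply {i j : n} (hij : i ≠ j) (x y : n) :
    ((1 - Matrix.single i i 1 - Matrix.single j j 1 + Matrix.single i j 1 -
      Matrix.single j i 1 : Matrix n n F)) x y =
      if x = Equiv.swap i j y then (if y = i then -1 else 1) else 0 := by
  simp only [Matrix.sub_apply, Matrix.add_apply, Matrix.one_apply, Matrix.single_apply]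
  by_cases hyi : y = i
  · subst hyi
    rw [Equiv.swap_apply_left, if_pos rfl]
    by_cases hxj : x = j
    · subst hxj
      simp [hij, hij.symm]
    · by_cases hxy : x = y
      · subst hxy
        simp [hij, hij.symm, hxj]
      · simp [hxj, hxy, Ne.symm hxy, Ne.symm hxj]
  · by_cases hyj : y = j
    · subst hyj
      rw [Equiv.swap_apply_right, if_neg hyi]
      by_cases hxi : x = i
      · subst hxi
        simp [hij, hij.symm]
      · by_cases hxy : x = y
        · subst hxy
          simp [hij, hij.symm, hxi]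
        · simp [hxi, hxy, Ne.symm hxy, Ne.symm hxi]
    · rw [Equiv.swap_apply_of_ne_of_ne hyi hyj, if_neg hyi]
      by_cases hxy : x = y
      · subst hxy
        simp [hyi, hyj, Ne.symm hyi, Ne.symm hyj]
      · simp [hxy, Ne.symm hyi, Ne.symm hyj]

end wmat

theorem transvection_transpose' (i j : Fin m) (c : F) :
    (transvection i j c)ᵀ = transvection j i c := by
  rw [transvection, transvection, Matrix.transpose_add, Matrix.transpose_one,
    Matrix.transpose_single]

theorem sRef_coe_eq (k : Fin m) :
    ((sRef k : SpG m F) : Matrix (Idx m) (Idx m) F) = xMat k 1 * (xMat k (-1))ᵀ * xMat k 1 := rfl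

theorem sSign_inl (k j : Fin m) : sSign (F := F) k (Sum.inl j) = if j = k then -1 else 1 := by
  unfold sSign aI iota
  by_cases h : j = k
  · subst h; simp
  · have : (Sum.inl j : Idx m) ≠ Sum.inl k := fun e => h (Sum.inl.inj e)
    simp [this, h]

theorem sSign_inr_of_lt {k : Fin m} (hk : k.val + 1 < m) (j : Fin m) :
    sSign (F := F) k (Sum.inr j) = if j = k then -1 else 1 := by
  unfold sSign aI iota
  by_cases h : j = k
  · subst h; simp [hk]
  · have : (Sum.inr j : Idx m) ≠ Sum.inr k := fun e => h (Sum.inr.inj e)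
    simp [h]

theorem sSign_inr_of_not_lt {k : Fin m} (hk : ¬ k.val + 1 < m) (j : Fin m) :
    sSign (F := F) k (Sum.inr j) = 1 := by
  unfold sSign aI iota
  simp [hk]

theorem sPerm_of_lt {k : Fin m} (hk : k.val + 1 < m) :
    sPerm k = Equiv.swap (Sum.inl k : Idx m) (Sum.inl ⟨k.val + 1, hk⟩) *
      Equiv.swap (Sum.inr k : Idx m) (Sum.inr ⟨k.val + 1, hk⟩) := by
  unfold sPerm
  rw [if_pos hk, bI_of_lt hk]
  rfl

theorem sPerm_of_not_lt {k : Fin m} (hk : ¬ k.val + 1 < m) :
    sPerm k = Equiv.swap (Sum.inl k : Idx m) (Sum.inr k) := by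
  unfold sPerm
  rw [if_neg hk, bI_of_not_lt hk]
  rfl

theorem swap_inl_inl (i j x : Fin m) :
    Equiv.swap (Sum.inl i : Idx m) (Sum.inl j) (Sum.inl x) = Sum.inl (Equiv.swap i j x) := by
  by_cases hi : x = i
  · subst hi; rw [Equiv.swap_apply_left, Equiv.swap_apply_left]
  · by_cases hj : x = j
    · subst hj; rw [Equiv.swap_apply_right, Equiv.swap_apply_right]
    · rw [Equiv.swap_apply_of_ne_of_ne hi hj,
        Equiv.swap_apply_of_ne_of_ne (by simpa using hi) (by simpa using hj)]

theorem swap_inr_inr (i j x : Fin m) :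
    Equiv.swap (Sum.inr i : Idx m) (Sum.inr j) (Sum.inr x) = Sum.inr (Equiv.swap i j x) := by
  by_cases hi : x = i
  · subst hi; rw [Equiv.swap_apply_left, Equiv.swap_apply_left]
  · by_cases hj : x = j
    · subst hj; rw [Equiv.swap_apply_right, Equiv.swap_apply_right]
    · rw [Equiv.swap_apply_of_ne_of_ne hi hj,
        Equiv.swap_apply_of_ne_of_ne (by simpa using hi) (by simpa using hj)]

theorem sPerm_inl_of_lt {k : Fin m} (hk : k.val + 1 < m) (j : Fin m) :
    sPerm k (Sum.inl j) = Sum.inl (Equiv.swap k ⟨k.val + 1, hk⟩ j) := by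
  have h1 : Equiv.swap (Sum.inr k : Idx m) (Sum.inr ⟨k.val + 1, hk⟩) (Sum.inl j) = Sum.inl j :=
    Equiv.swap_apply_of_ne_of_ne (by simp) (by simp)
  rw [sPerm_of_lt hk, Equiv.Perm.mul_apply, h1]
  exact swap_inl_inl _ _ _

theorem sPerm_inr_of_lt {k : Fin m} (hk : k.val + 1 < m) (j : Fin m) :
    sPerm k (Sum.inr j) = Sum.inr (Equiv.swap k ⟨k.val + 1, hk⟩ j) := by
  have h1 : Equiv.swap (Sum.inl k : Idx m) (Sum.inl ⟨k.val + 1, hk⟩)
      (Sum.inr (Equiv.swap k ⟨k.val + 1, hk⟩ j)) = Sum.inr (Equiv.swap k ⟨k.val + 1, hk⟩ j) :=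
    Equiv.swap_apply_of_ne_of_ne (by simp) (by simp)
  have h2 : Equiv.swap (Sum.inr k : Idx m) (Sum.inr ⟨k.val + 1, hk⟩) (Sum.inr j) =
      Sum.inr (Equiv.swap k ⟨k.val + 1, hk⟩ j) :=
    swap_inr_inr _ _ _
  rw [sPerm_of_lt hk, Equiv.Perm.mul_apply, h2, h1]

/-- [E-SMAT] -/
theorem sRef_coe (k : Fin m) :
    ((sRef k : SpG m F) : Matrix (Idx m) (Idx m) F) = monoMat (sPerm k) (sSign k) := by
  rw [sRef_coe_eq]
  by_cases hk : k.val + 1 < m
  · rw [xMat_of_lt hk, xMat_of_lt hk, fromBlocks_transpose, fromBlocks_multiply,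
      fromBlocks_multiply]
    simp only [Matrix.mul_zero, Matrix.zero_mul, add_zero, zero_add, Matrix.transpose_zero,
      transvection_transpose', neg_neg]
    rw [transvection_triple (succ_ne hk), transvection_triple' (succ_ne hk)]
    ext (i | i) (j | j)
    · rw [fromBlocks_apply₁₁, wMat_apply (succ_ne hk), monoMat_apply, sPerm_inl_of_lt hk,
        sSign_inl]
      simp only [Sum.inl.injEq]
    · rw [fromBlocks_apply₁₂, monoMat_apply, sPerm_inr_of_lt hk]
      simp
    · rw [fromBlocks_apply₂₁, monoMat_apply, sPerm_inl_of_lt hk]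
      simp
    · rw [fromBlocks_apply₂₂, wMat_apply (succ_ne hk), monoMat_apply, sPerm_inr_of_lt hk,
        sSign_inr_of_lt hk]
      simp only [Sum.inr.injEq]
  · rw [xMat_of_not_lt hk, xMat_of_not_lt hk, fromBlocks_transpose, fromBlocks_multiply,
      fromBlocks_multiply]
    simp only [Matrix.mul_zero, Matrix.zero_mul, add_zero, zero_add, Matrix.transpose_zero,
      Matrix.transpose_one, Matrix.one_mul, Matrix.mul_one, Matrix.transpose_single,
      single_neg', Matrix.mul_neg, Matrix.neg_mul, Matrix.single_mul_single_same, mul_one]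
    ext (i | i) (j | j)
    · rw [fromBlocks_apply₁₁, monoMat_apply, sPerm_of_not_lt hk, sSign_inl]
      by_cases hj : j = k
      · subst hj
        rw [Equiv.swap_apply_left]
        by_cases hi : i = j
        · subst hi; simp [Matrix.one_apply, Matrix.single_apply]
        · simp [Matrix.one_apply, Matrix.single_apply, hi, Ne.symm hi]
      · rw [Equiv.swap_apply_of_ne_of_ne (by simpa using hj) (by simp)]
        simp [Matrix.one_apply, Matrix.single_apply, hj, Ne.symm hj]
    · rw [fromBlocks_apply₁₂, monoMat_apply, sPerm_of_not_lt hk, sSign_inr_of_not_lt hk]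
      by_cases hj : j = k
      · subst hj
        rw [Equiv.swap_apply_right]
        by_cases hi : i = j
        · subst hi; simp [Matrix.single_apply]
        · simp [Matrix.single_apply, hi, Ne.symm hi]
      · rw [Equiv.swap_apply_of_ne_of_ne (by simp) (by simpa using hj)]
        simp [Matrix.single_apply, hj, Ne.symm hj]
    · rw [fromBlocks_apply₂₁, monoMat_apply, sPerm_of_not_lt hk, sSign_inl]
      by_cases hj : j = k
      · subst hj
        rw [Equiv.swap_apply_left]
        by_cases hi : i = j
        · subst hi; simp [Matrix.single_apply]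
        · simp [Matrix.single_apply, hi, Ne.symm hi]
      · rw [Equiv.swap_apply_of_ne_of_ne (by simpa using hj) (by simp)]
        simp [Matrix.single_apply, hj, Ne.symm hj]
    · rw [fromBlocks_apply₂₂, monoMat_apply, sPerm_of_not_lt hk, sSign_inr_of_not_lt hk]
      by_cases hj : j = k
      · subst hj
        rw [Equiv.swap_apply_right]
        by_cases hi : i = j
        · subst hi; simp [Matrix.one_apply, Matrix.single_apply]
        · simp [Matrix.one_apply, Matrix.single_apply, hi, Ne.symm hi]
      · rw [Equiv.swap_apply_of_ne_of_ne (by simp) (by simpa using hj)]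
        simp [Matrix.one_apply, Matrix.single_apply, hj, Ne.symm hj]

end Cfsg.Agent.Lib.Helper13.SpBN
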