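import Mathlib
import Cfsg.Agent.Lib.Helper13.SpBN.SMat

/-!
# SPBN: `s x(t) s⁻¹ = y(-t)` and `y(t) ∉ B` (leaf AX-NE)
-/

set_option autoImplicit false

namespace Cfsg.Agent.Lib.Helper13.SpBN

open Matrix

variable {m : ℕ} {F : Type*} [Field F]

/-- the `2 × 2` rotation in position `(i, j)` -/
def wMat {n : Type*} [DecidableEq n] (F : Type*) [Field F] (i j : n) : Matrix n n F :=
  1 - Matrix.single i i 1 - Matrix.single j j 1 + Matrix.single i j 1 - Matrix.single j i 1

theorem sMat_of_lt {k : Fin m} (hk : k.val + 1 < m) :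
    ((sRef k : SpG m F) : Matrix (Idx m) (Idx m) F) =
      fromBlocks (wMat F k ⟨k.val + 1, hk⟩) 0 0 (wMat F k ⟨k.val + 1, hk⟩) := by
  rw [sRef_coe_eq, xMat_of_lt hk, xMat_of_lt hk, fromBlocks_transpose, fromBlocks_multiply,
    fromBlocks_multiply]
  simp only [Matrix.mul_zero, Matrix.zero_mul, add_zero, zero_add, Matrix.transpose_zero,
    transvection_transpose', neg_neg]
  rw [transvection_triple (succ_ne hk), transvection_triple' (succ_ne hk)]
  rfl

theorem sMat_of_not_lt {k : Fin m} (hk : ¬ k.val + 1 < m) :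
    ((sRef k : SpG m F) : Matrix (Idx m) (Idx m) F) =
      fromBlocks (1 - Matrix.single k k 1) (Matrix.single k k 1) (-Matrix.single k k 1)
        (1 - Matrix.single k k 1) := by
  rw [sRef_coe_eq, xMat_of_not_lt hk, xMat_of_not_lt hk, fromBlocks_transpose, fromBlocks_multiply,
    fromBlocks_multiply]
  simp only [Matrix.mul_zero, Matrix.zero_mul, add_zero, zero_add, Matrix.transpose_zero,
    Matrix.transpose_one, Matrix.one_mul, Matrix.mul_one, Matrix.transpose_single,
    single_neg', Matrix.mul_neg, Matrix.neg_mul, Matrix.single_mul_single_same, mul_one,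
    Matrix.transpose_neg, Matrix.add_mul]
  congr 1
  · rw [sub_eq_add_neg]
  · abel
  · rw [sub_eq_add_neg, add_comm]

section walg

variable {n : Type*} [DecidableEq n] [Fintype n]

theorem wMat_mul_transvection {i j : n} (hij : i ≠ j) (t : F) :
    wMat F i j * transvection i j t = transvection j i (-t) * wMat F i j := by
  have h1 : transvection j i (-t) = 1 - Matrix.single j i t := by
    rw [transvection, single_neg', sub_eq_add_neg]
  rw [h1]
  simp only [wMat, transvection, Matrix.mul_add, Matrix.add_mul, Matrix.mul_sub, Matrix.sub_mul,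
    Matrix.mul_one, Matrix.one_mul,
    Matrix.single_mul_single_same, Matrix.single_mul_single_of_ne _ _ _ _ hij,
    Matrix.single_mul_single_of_ne _ _ _ _ hij.symm, mul_one, one_mul, Matrix.single_zero]
  abel

theorem wMat_mul_transvection' {i j : n} (hij : i ≠ j) (t : F) :
    wMat F i j * transvection j i (-t) = transvection i j t * wMat F i j := by
  have h1 : transvection j i (-t) = 1 - Matrix.single j i t := by
    rw [transvection, single_neg', sub_eq_add_neg]
  rw [h1]
  simp only [wMat, transvection, Matrix.mul_add, Matrix.add_mul, Matrix.mul_sub, Matrix.sub_mul,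
    Matrix.mul_one, Matrix.one_mul,
    Matrix.single_mul_single_same, Matrix.single_mul_single_of_ne _ _ _ _ hij,
    Matrix.single_mul_single_of_ne _ _ _ _ hij.symm, mul_one, one_mul, Matrix.single_zero]
  abel

end walg

theorem sRef_mul_xRoot (k : Fin m) (t : F) :
    (sRef k : SpG m F) * xRoot k t = yRoot k (-t) * sRef k := by
  apply Subtype.ext
  show ((sRef k : SpG m F) : Matrix (Idx m) (Idx m) F) * xMat k t =
    (xMat k (-t))ᵀ * ((sRef k : SpG m F) : Matrix (Idx m) (Idx m) F)
  by_cases hk : k.val + 1 < m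
  · rw [sMat_of_lt hk, xMat_of_lt hk, xMat_of_lt hk, fromBlocks_transpose, fromBlocks_multiply,
      fromBlocks_multiply]
    simp only [Matrix.mul_zero, Matrix.zero_mul, add_zero, zero_add, Matrix.transpose_zero,
      transvection_transpose', neg_neg]
    rw [wMat_mul_transvection (succ_ne hk), wMat_mul_transvection' (succ_ne hk)]
  · rw [sMat_of_not_lt hk, xMat_of_not_lt hk, xMat_of_not_lt hk, fromBlocks_transpose,
      fromBlocks_multiply, fromBlocks_multiply]
    simp only [Matrix.mul_zero, Matrix.zero_mul, add_zero, zero_add, Matrix.transpose_zero,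
      Matrix.transpose_one, Matrix.one_mul, Matrix.mul_one, Matrix.transpose_single,
      single_neg', Matrix.mul_neg, Matrix.neg_mul, Matrix.single_mul_single_same, mul_one,
      one_mul, Matrix.mul_sub, Matrix.sub_mul, neg_neg, Matrix.transpose_neg]
    congr 1
    · abel
    · abel
    · abel

/-- [AX-NE] -/
theorem sRef_conj_xRoot (k : Fin m) (t : F) :
    (sRef k : SpG m F) * xRoot k t * (sRef k)⁻¹ = yRoot k (-t) := by
  rw [sRef_mul_xRoot, mul_assoc, mul_inv_cancel, mul_one]

theorem aI_ne_bI (k : Fin m) : aI k ≠ bI k := by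
  unfold aI bI
  split_ifs with h
  · intro e
    have := Sum.inl.inj e
    exact succ_ne h this
  · simp

theorem rk_aI_lt_rk_bI (k : Fin m) : rk (aI k) < rk (bI k) := by
  unfold aI bI
  split_ifs with h
  · show k.val < k.val + 1
    omega
  · show k.val < 2 * m - 1 - k.val
    have := k.2
    omega

theorem xMat_apply_aI_bI (k : Fin m) (t : F) : xMat k t (aI k) (bI k) = t := by
  rw [xMat_eq]
  have h1 : (1 : Matrix (Idx m) (Idx m) F) (aI k) (bI k) = 0 := Matrix.one_apply_ne (aI_ne_bI k)
  by_cases h : k.val + 1 < m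
  · rw [if_pos h]
    have h2 : (Matrix.single (iota (bI k)) (iota (aI k)) t : Matrix (Idx m) (Idx m) F)
        (aI k) (bI k) = 0 := by
      apply Matrix.single_apply_of_ne
      rw [bI_of_lt h]
      unfold aI iota
      simp
    rw [Matrix.sub_apply, Matrix.add_apply, h1, h2, Matrix.single_apply_same]
    ring
  · rw [if_neg h, Matrix.sub_apply, Matrix.add_apply, h1, Matrix.single_apply_same]
    simp

/-- [AX-NE] -/
theorem yRoot_not_mem_Bsp (k : Fin m) {t : F} (ht : t ≠ 0) : yRoot k t ∉ Bsp m F := by
  intro h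
  have h1 : BlockTriangular ((xMat k t)ᵀ) rk := h
  have h2 := h1 (rk_aI_lt_rk_bI k)
  rw [Matrix.transpose_apply, xMat_apply_aI_bI] at h2
  exact ht h2

end Cfsg.Agent.Lib.Helper13.SpBN
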